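import Cfsg.Agent.Lib.OutRu.Elements

/-!
# The normaliser of the element of order 29 and the centraliser of the element of order 14

* `normX` : the normaliser is the Frobenius group of order 29·14
* `centY` : the centraliser has order 28
-/

set_option autoImplicit false
set_option maxRecDepth 8000

namespace Cfsg.Agent.OutRu

open Cfsg.Agent.StabCert Cfsg.Agent.RuPerm

attribute [local irreducible] maskOf ev

/-- `fix_of_pats` with the length of the list given by name. -/
theorem fix_of_pats' {g : Equiv.Perm (Fin 4060)} (hg : g ∈ orthGroup) {C : List ℕ}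
    {T : List (List ℕ)} {n : ℕ} (hn : C.length = n) (hT : tabOK T C = true)
    (hC : ∀ c ∈ C, c < 4060) (hfix : ∀ c ∈ C, g (pt c) = pt c) {ps : List (ℕ × ℕ)}
    (hps : ∀ z < 4060, patsOK T n ps z = true) {e : ℕ × ℕ} (hd : e.1 < 4060)
    (hmem : e ∈ ps) (hm : maskOf T n e.1 = e.2) : g (pt e.1) = pt e.1 := by
  subst hn
  exact fix_of_pats hg hT hC hfix hps hd hmem hm

theorem det_eq : fixPts.take 5 = [0, 20, 42, 869, 1211] := by decide +kernel

theorem eq_one_of_five {g : Equiv.Perm (Fin 4060)} (hg : g ∈ orthGroup)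
    (h : ∀ d ∈ [0, 20, 42, 869, 1211], g (pt d) = pt d) : g = 1 := by
  have h5 : g ∈ fixSub 5 := mem_fixSub.2 ⟨hg, det_eq ▸ h⟩
  rw [fix_five] at h5
  exact Subgroup.mem_bot.1 h5

theorem xx_orth : xx ∈ orthGroup := rud_eq ▸ xx_mem

theorem yy_orth : yy ∈ orthGroup := rud_eq ▸ yy_mem

theorem vv_orth : vv ∈ orthGroup := rud_eq ▸ vv_mem

theorem orbX_eq : orbX = (List.range 29).map (fun k => (ev 12 tabs [0])^[k] 0) := orbits_ok.1

theorem orbX'_eq : orbX' = (List.range 29).map (fun k => (ev 12 tabs [0])^[k] 111) := orbits_ok.2.1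

theorem orbY_eq : orbY = (List.range 14).map (fun k => (ev 12 tabs [1])^[k] 24) := orbits_ok.2.2.1

theorem orbY'_eq : orbY' = (List.range 14).map (fun k => (ev 12 tabs [1])^[k] 737) :=
  orbits_ok.2.2.2.1

theorem vv_24 : vv (pt 24) = pt 737 := by
  rw [vv, (word_apply (by decide) (by norm_num)).2, orbits_ok.2.2.2.2]

theorem orb_spec {σ : Equiv.Perm (Fin 4060)} {w : List ℕ}
    (h : ∀ i < 4060, ev 12 tabs w i < 4060 ∧ σ (pt i) = pt (ev 12 tabs w i)) {p n : ℕ} (hp : p < 4060)
    {C : List ℕ} (hC : C = (List.range n).map (fun k => (ev 12 tabs w)^[k] p)) {c : ℕ} (hc : c ∈ C) :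
    c < 4060 ∧ ∃ k : ℕ, (σ ^ k) (pt p) = pt c := by
  rw [hC, List.mem_map] at hc
  obtain ⟨k, -, rfl⟩ := hc
  exact ⟨(iter_apply h hp k).1, k, (iter_apply h hp k).2⟩

theorem fix_orbit {σ g : Equiv.Perm (Fin 4060)} (hc : Commute g σ) {p c k : ℕ}
    (hp : g (pt p) = pt p) (hk : (σ ^ k) (pt p) = pt c) : g (pt c) = pt c := by
  rw [← hk, ← Equiv.Perm.mul_apply, (hc.pow_right k).eq, Equiv.Perm.mul_apply, hp]

theorem orbX_len : orbX.length = 29 := by rw [orbX_eq, List.length_map, List.length_range]

theorem orbX'_len : orbX'.length = 29 := by rw [orbX'_eq, List.length_map, List.length_range]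

theorem orbY_len : orbY.length = 14 := by rw [orbY_eq, List.length_map, List.length_range]

theorem pats_all {T : List (List ℕ)} {n : ℕ} {ps : List (ℕ × ℕ)}
    (h0 : ((List.range' 0 1015).all fun z => patsOK T n ps z) = true)
    (h1 : ((List.range' 1015 1015).all fun z => patsOK T n ps z) = true)
    (h2 : ((List.range' 2030 1015).all fun z => patsOK T n ps z) = true)
    (h3 : ((List.range' 3045 1015).all fun z => patsOK T n ps z) = true) :
    ∀ z < 4060, patsOK T n ps z = true :=
  fun _ hz => all_range' h0 h1 h2 h3 hz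

/-- An element commuting with `xx` is a power of it. -/
theorem cent_xx {g : Equiv.Perm (Fin 4060)} (hg : g ∈ orthGroup) (hc : Commute g xx) :
    ∃ a : ℕ, g = xx ^ a := by
  set q := (g (pt 0)).val with hq
  have hqlt : q < 4060 := (g (pt 0)).isLt
  have hgq : g (pt 0) = pt q := (pt_val _).symm
  have hint : ∀ i < 4060, g (pt (ev 12 tabs [0] i)) = pt (ev 12 tabs [0] (g (pt i)).val) := by
    intro i hi
    rw [← (step0 hi).2, ← Equiv.Perm.mul_apply, hc.eq, Equiv.Perm.mul_apply,
      ← (step0 (g (pt i)).isLt).2, pt_val]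
  have hs := same_transfer hg (fun i hi => (step0 hi).1) (fun i hi => (step0 hi).1) hint
    (p := 0) (by norm_num) hqlt hgq bitsX 0 q (by norm_num) hqlt hgq bits_ok.1
  have hscan := all_range' scanX_ok0 scanX_ok1 scanX_ok2 scanX_ok3 hqlt
  simp only [scanOK, hs, Bool.not_true, Bool.false_or, List.contains_iff_mem,
    List.mem_append] at hscan
  have hC : ∀ c ∈ orbX, c < 4060 := fun c h =>
    (orb_spec (fun i hi => step0 hi) (by norm_num) orbX_eq h).1
  rcases hscan with h | h
  · obtain ⟨-, k, hk⟩ := orb_spec (fun i hi => step0 hi) (by norm_num) orbX_eq h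
    refine ⟨k, ?_⟩
    set f := (xx ^ k)⁻¹ * g with hf
    have hfg : f ∈ orthGroup := mul_mem (inv_mem (pow_mem xx_orth k)) hg
    have hfc : Commute f xx := ((Commute.refl xx).pow_left k).inv_left.mul_left hc
    have hf0 : f (pt 0) = pt 0 := by
      rw [hf, Equiv.Perm.mul_apply, hgq, ← hk]
      simp
    have hfix : ∀ c ∈ orbX, f (pt c) = pt c := fun c hc' => by
      obtain ⟨-, j, hj⟩ := orb_spec (fun i hi => step0 hi) (by norm_num) orbX_eq hc'
      exact fix_orbit hfc hf0 hj
    have hm := masks_ok.1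
    simp only [List.all_eq_true, Nat.beq_eq] at hm
    have five : ∀ e ∈ patsX, f (pt e.1) = pt e.1 := fun e he => by
      refine fix_of_pats' hfg (n := 29) orbX_len tables_ok.1 hC hfix
        (pats_all patsX_ok0 patsX_ok1 patsX_ok2 patsX_ok3) ?_ he (hm e he)
      simp [patsX] at he
      rcases he with rfl | rfl | rfl | rfl | rfl <;> norm_num
    have h1 : f = 1 := eq_one_of_five hfg fun d hd => by
      simp only [List.mem_cons, List.not_mem_nil, or_false] at hd
      rcases hd with rfl | rfl | rfl | rfl | rfl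
      · exact five (0, 455530806) (by simp [patsX])
      · exact five (20, 353897655) (by simp [patsX])
      · exact five (42, 136712895) (by simp [patsX])
      · exact five (869, 445384283) (by simp [patsX])
      · exact five (1211, 296560342) (by simp [patsX])
    rw [hf, inv_mul_eq_one] at h1
    exact h1.symm
  · exfalso
    obtain ⟨-, k, hk⟩ := orb_spec (fun i hi => step0 hi) (by norm_num) orbX'_eq h
    set f := (xx ^ k)⁻¹ * g with hf
    have hfg : f ∈ orthGroup := mul_mem (inv_mem (pow_mem xx_orth k)) hg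
    have hfc : Commute f xx := ((Commute.refl xx).pow_left k).inv_left.mul_left hc
    have hf0 : f (pt 0) = pt 111 := by
      rw [hf, Equiv.Perm.mul_apply, hgq, ← hk]
      simp
    have hC' : ∀ c ∈ orbX', c < 4060 := fun c h' =>
      (orb_spec (fun i hi => step0 hi) (by norm_num) orbX'_eq h').1
    have hmap : orbX.map (fun c => f (pt c)) = orbX'.map pt := by
      rw [orbX_eq, orbX'_eq, List.map_map, List.map_map]
      refine List.map_congr_left fun j _ => ?_
      simp only [Function.comp_apply]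
      rw [← (iter_apply (fun i hi => step0 hi) (by norm_num) j).2,
        ← (iter_apply (fun i hi => step0 hi) (by norm_num) j).2, ← Equiv.Perm.mul_apply,
        (hfc.pow_right j).eq, Equiv.Perm.mul_apply, hf0]
    have e := mask_transfer hfg tables_ok.1 tables_ok.2.1 hC hC' (by rw [orbX'_len, orbX_len]) hmap
      (z := witX) (by decide)
    rw [orbX'_len, orbX_len, masks_ok.2.2.2] at e
    have hp := pats_all patsX'_ok0 patsX'_ok1 patsX'_ok2 patsX'_ok3 _ (f (pt witX)).isLt
    simp only [patsOK, onNat_eq, e, List.all_cons, List.all_nil, Bool.and_true, Bool.or_eq_true,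
      Bool.not_eq_true', Nat.beq_eq] at hp
    rcases hp with hp | hp
    · simp at hp
    · exact absurd hp (f (pt witX)).isLt.ne

/-- No element sends `xx` to its square. -/
theorem no_square {g : Equiv.Perm (Fin 4060)} (hg : g ∈ orthGroup) (h : g * xx = xx ^ 2 * g) :
    False := by
  have hint : ∀ i < 4060, g (pt (ev 12 tabs [0] i)) = pt (ev 12 tabs [0, 0] (g (pt i)).val) := by
    intro i hi
    rw [← (step0 hi).2, ← Equiv.Perm.mul_apply, h, Equiv.Perm.mul_apply,
      ← (step00 (g (pt i)).isLt).2, pt_val]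
  have hqlt : (g (pt 0)).val < 4060 := (g (pt 0)).isLt
  have hs := same_transfer hg (fun i hi => (step0 hi).1) (fun i hi => (step00 hi).1) hint
    (p := 0) (by norm_num) hqlt (pt_val _).symm bitsX 0 _ (by norm_num) hqlt (pt_val _).symm bits_ok.1
  have hscan := all_range' scanXX_ok0 scanXX_ok1 scanXX_ok2 scanXX_ok3 hqlt
  simp [scanOK, hs] at hscan

/-- The elements commuting with `yy`. -/
theorem cent_yy {g : Equiv.Perm (Fin 4060)} (hg : g ∈ orthGroup) (hc : Commute g yy) :
    ∃ k : ℕ, g = yy ^ k ∨ g = yy ^ k * vv := by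
  set q := (g (pt 24)).val with hq
  have hqlt : q < 4060 := (g (pt 24)).isLt
  have hgq : g (pt 24) = pt q := (pt_val _).symm
  have hint : ∀ i < 4060, g (pt (ev 12 tabs [1] i)) = pt (ev 12 tabs [1] (g (pt i)).val) := by
    intro i hi
    rw [← (step1 hi).2, ← Equiv.Perm.mul_apply, hc.eq, Equiv.Perm.mul_apply,
      ← (step1 (g (pt i)).isLt).2, pt_val]
  have hs := same_transfer hg (fun i hi => (step1 hi).1) (fun i hi => (step1 hi).1) hint
    (p := 24) (by norm_num) hqlt hgq bitsY 24 q (by norm_num) hqlt hgq bits_ok.2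
  have hscan := all_range' scanY_ok0 scanY_ok1 scanY_ok2 scanY_ok3 hqlt
  simp only [scanOK, hs, Bool.not_true, Bool.false_or, List.contains_iff_mem,
    List.mem_append] at hscan
  have hC : ∀ c ∈ orbY, c < 4060 := fun c h =>
    (orb_spec (fun i hi => step1 hi) (by norm_num) orbY_eq h).1
  have key : ∀ f ∈ orthGroup, Commute f yy → f (pt 24) = pt 24 → f = 1 := by
    intro f hfg hfc hf0
    have hfix : ∀ c ∈ orbY, f (pt c) = pt c := fun c hc' => by
      obtain ⟨-, j, hj⟩ := orb_spec (fun i hi => step1 hi) (by norm_num) orbY_eq hc'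
      exact fix_orbit hfc hf0 hj
    have hm := masks_ok.2.1
    simp only [List.all_eq_true, Nat.beq_eq] at hm
    have four : ∀ e ∈ patsY, f (pt e.1) = pt e.1 := fun e he =>
      fix_of_pats' hfg (n := 14) orbY_len tables_ok.2.2.1 hC hfix
        (pats_all patsY_ok0 patsY_ok1 patsY_ok2 patsY_ok3)
        (by simp [patsY] at he; rcases he with rfl | rfl | rfl | rfl <;> norm_num) he (hm _ he)
    have hl' : (orbY ++ [0]).length = 15 := by rw [List.length_append, orbY_len]; rfl
    have h42 : f (pt 42) = pt 42 := by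
      refine fix_of_pats' hfg (n := 15) hl' tables_ok.2.2.2 ?_ ?_ (e := (42, 30961))
        (pats_all patsYe_ok0 patsYe_ok1 patsYe_ok2 patsYe_ok3) (by norm_num)
        List.mem_cons_self masks_ok.2.2.1
      · intro c hc'
        rcases List.mem_append.1 hc' with hc' | hc'
        · exact hC c hc'
        · rw [List.mem_singleton.1 hc']; norm_num
      · intro c hc'
        rcases List.mem_append.1 hc' with hc' | hc'
        · exact hfix c hc'
        · rw [List.mem_singleton.1 hc']
          exact four (0, 10070) (by simp [patsY])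
    refine eq_one_of_five hfg fun d hd => ?_
    simp only [List.mem_cons, List.not_mem_nil, or_false] at hd
    rcases hd with rfl | rfl | rfl | rfl | rfl
    · exact four (0, 10070) (by simp [patsY])
    · exact four (20, 3812) (by simp [patsY])
    · exact h42
    · exact four (869, 13598) (by simp [patsY])
    · exact four (1211, 10186) (by simp [patsY])
  rcases hscan with h | h
  · obtain ⟨-, k, hk⟩ := orb_spec (fun i hi => step1 hi) (by norm_num) orbY_eq h
    refine ⟨k, Or.inl ?_⟩
    have h1 := key _ (mul_mem (inv_mem (pow_mem yy_orth k)) hg)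
      (((Commute.refl yy).pow_left k).inv_left.mul_left hc) (by
        rw [Equiv.Perm.mul_apply, hgq, ← hk]; simp)
    rw [inv_mul_eq_one] at h1
    exact h1.symm
  · obtain ⟨-, k, hk⟩ := orb_spec (fun i hi => step1 hi) (by norm_num) orbY'_eq h
    refine ⟨k, Or.inr ?_⟩
    have h1 := key _ (mul_mem (inv_mem (mul_mem (pow_mem yy_orth k) vv_orth)) hg)
      ((((Commute.refl yy).pow_left k).mul_left vv_comm).inv_left.mul_left hc) (by
        rw [Equiv.Perm.mul_apply, hgq, ← hk, ← vv_24, ← Equiv.Perm.mul_apply (yy ^ k) vv]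
        exact Equiv.symm_apply_apply _ _)
    rw [inv_mul_eq_one] at h1
    exact h1.symm

theorem conj_pow_xx : ∀ b n : ℕ, yy ^ b * xx ^ n = xx ^ (4 ^ b * n) * yy ^ b
  | 0, n => by simp
  | b + 1, n => by
    have h1 : yy * xx ^ (4 ^ b * n) = xx ^ (4 * (4 ^ b * n)) * yy := by
      rw [pow_mul xx 4, ← yy_conj, conj_pow]
      group
    rw [pow_succ' yy, mul_assoc, conj_pow_xx b n, ← mul_assoc, h1, mul_assoc, pow_succ' 4, mul_assoc]

/-- The normaliser of the element of order 29. -/
theorem normX {g : Equiv.Perm (Fin 4060)} (hg : g ∈ rud) {i : ℕ} (h : g * xx * g⁻¹ = xx ^ i) :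
    ∃ a b : ℕ, g = xx ^ a * yy ^ b := by
  have h29 : ∀ n, xx ^ n = xx ^ (n % 29) := fun n => by
    conv_lhs => rw [← Nat.div_add_mod n 29, pow_add, pow_mul, xx_pow, one_pow, one_mul]
  have hi : i % 29 ≠ 0 := fun e => by
    rw [h29, e, pow_zero, conj_eq_one_iff] at h
    exact xx_ne_one h
  obtain ⟨b, hb, hb'⟩ : ∃ b < 14, (4 ^ b * (i % 29)) % 29 ∈ [1, 2] := by
    have : ∀ j < 29, j ≠ 0 → ∃ b < 14, (4 ^ b * j) % 29 ∈ [1, 2] := by decide +kernel
    exact this _ (Nat.mod_lt _ (by norm_num)) hi
  set f := yy ^ b * g with hf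
  have hfg : f ∈ orthGroup := rud_eq ▸ mul_mem (pow_mem yy_mem b) hg
  have hfx : f * xx = xx ^ ((4 ^ b * (i % 29)) % 29) * f := by
    have e : g * xx = xx ^ (i % 29) * g := by rw [← h29, ← h]; group
    rw [hf, mul_assoc, e, ← mul_assoc, conj_pow_xx, ← h29, mul_assoc]
  simp only [List.mem_cons, List.not_mem_nil, or_false] at hb'
  rcases hb' with e | e <;> rw [e] at hfx
  · rw [pow_one] at hfx
    obtain ⟨a, ha⟩ := cent_xx hfg hfx
    refine ⟨4 ^ (14 - b) * a, 14 - b, ?_⟩
    rw [← conj_pow_xx, ← ha, hf, ← mul_assoc, ← pow_add, Nat.sub_add_cancel hb.le, yy_pow, one_mul]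
  · exact (no_square hfg hfx).elim

end Cfsg.Agent.OutRu
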