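import Cfsg.Agent.Lib.RuPerm.Groups
import Cfsg.Agent.Lib.OutRu.Data

/-!
# Certificates for centralisers in the Rudvalis group

* `orthB` : orthogonality of two lines
* `same`, `same_transfer` : the pattern of a line with its images
* `mask_transfer`, `patsOK` : a line is fixed if its pattern with fixed lines is unique
-/

set_option autoImplicit false

namespace Cfsg.Agent.OutRu

open Cfsg.Agent.StabCert Cfsg.Agent.RuPerm

/-- The encoded product of two lines given by their digits. -/
noncomputable def prodSum : ℕ → ℕ → ℕ → ℕ :=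
  fun n => Nat.rec (motive := fun _ => ℕ → ℕ → ℕ) (fun _ _ => 0)
    (fun _ ih W V => Nat.add (look 16 termTab (Nat.add (Nat.mul 9 (Nat.mod W 16)) (Nat.mod V 16)))
      (ih (Nat.div W 16) (Nat.div V 16))) n

theorem prodSum_eq : ∀ n W V : ℕ,
    prodSum n W V = ∑ t : Fin n, look 16 termTab (9 * digit W t.val + digit V t.val)
  | 0, _, _ => rfl
  | n + 1, W, V => by
    rw [Fin.sum_univ_succ]
    show look 16 termTab (9 * (W % 16) + V % 16) + prodSum n (W / 16) (V / 16) = _
    rw [prodSum_eq n]
    congr 1
    · simp [digit]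
    · refine Finset.sum_congr rfl fun t _ => ?_
      simp [digit, pow_succ', Nat.div_div_eq_div_mul]

/-- Whether two lines are orthogonal. -/
noncomputable def orthB (a c : ℕ) : Bool := Nat.beq (prodSum 28 (line a) (line c)) 448448

theorem orthB_spec {a c : ℕ} (ha : a < 4060) (hc : c < 4060) :
    orthB a c = true ↔ Orth (pt a) (pt c) := by
  rw [Orth, val_pt ha, val_pt hc, ← (laneVal_spec (digits_spec a ha) (digits_spec c hc)).2,
    orthB, Nat.beq_eq, prodSum_eq]
  rfl

/-- The tables of the two elements. -/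
def tabs : List ℕ := [tabX, tabY]

/-- The line `p` has the pattern `bits` with the images of `c` under the powers of a step. -/
noncomputable def same (w : List ℕ) (p : ℕ) : List Bool → ℕ → Bool
  | [], _ => true
  | b :: l, c => onNat (ev 12 tabs w c) fun c' => (orthB p c' == b) && same w p l c'

/-- A line with the pattern of `p` under `w'` but outside `exc`. -/
noncomputable def scanOK (w : List ℕ) (bits : List Bool) (exc : List ℕ) (q : ℕ) : Bool :=
  !(same w q bits q) || exc.contains q

/-- The patterns `ps` occur for no other lines. -/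
noncomputable def patsOK (T : List (List ℕ)) (n : ℕ) (ps : List (ℕ × ℕ)) (z : ℕ) : Bool :=
  onNat (maskOf T n z) fun m => ps.all fun e => !(Nat.beq m e.2) || Nat.beq z e.1

theorem same_transfer {g : Equiv.Perm (Fin 4060)} (hg : g ∈ orthGroup) {w w' : List ℕ}
    (hw : ∀ i < 4060, ev 12 tabs w i < 4060) (hw' : ∀ i < 4060, ev 12 tabs w' i < 4060)
    (hint : ∀ i < 4060, g (pt (ev 12 tabs w i)) = pt (ev 12 tabs w' (g (pt i)).val))
    {p q : ℕ} (hp : p < 4060) (hq : q < 4060) (hpq : g (pt p) = pt q) :
    ∀ (l : List Bool) (c c' : ℕ), c < 4060 → c' < 4060 → g (pt c) = pt c' →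
      same w p l c = true → same w' q l c' = true
  | [], _, _, _, _, _, _ => rfl
  | b :: l, c, c', hc, hc', e, h => by
    simp only [same, onNat_eq, Bool.and_eq_true, beq_iff_eq] at h ⊢
    have e' : g (pt (ev 12 tabs w c)) = pt (ev 12 tabs w' c') := by
      rw [hint c hc, e, val_pt hc']
    refine ⟨?_, same_transfer hg hw hw' hint hp hq hpq l _ _ (hw c hc) (hw' c' hc') e' h.2⟩
    rw [← h.1, Bool.eq_iff_iff, orthB_spec hq (hw' c' hc'), orthB_spec hp (hw c hc), ← hpq, ← e']
    exact (hg _ _).symm

theorem maskOf_lt' (T : List (List ℕ)) (n z : ℕ) : maskOf T n z < 2 ^ n := laneBits_lt n _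

theorem mask_transfer {g : Equiv.Perm (Fin 4060)} (hg : g ∈ orthGroup) {C C' : List ℕ}
    {T T' : List (List ℕ)} (hT : tabOK T C = true) (hT' : tabOK T' C' = true)
    (hC : ∀ c ∈ C, c < 4060) (hC' : ∀ c ∈ C', c < 4060) (hlen : C'.length = C.length)
    (hmap : C.map (fun c => g (pt c)) = C'.map pt) {z : ℕ} (hz : z < 4060) :
    maskOf T' C'.length (g (pt z)).val = maskOf T C.length z := by
  refine Nat.eq_of_testBit_eq fun i => ?_
  by_cases hi : i < C.length
  · have hi' : i < C'.length := hlen ▸ hi
    rw [Bool.eq_iff_iff, (bulk_spec hT' digits_spec (g (pt z)).isLt hC').1 i hi',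
      (bulk_spec hT digits_spec hz hC).1 i hi]
    have e : g (pt C[i]) = pt C'[i] := by
      have h1 := congrArg (fun l => l[i]?) hmap
      simpa [List.getElem?_map, List.getElem?_eq_getElem hi, List.getElem?_eq_getElem hi'] using h1
    have h2 := hg (pt z) (pt C[i])
    simp only [Orth, e, val_pt hz, val_pt (hC _ (List.getElem_mem hi)),
      val_pt (hC' _ (List.getElem_mem hi'))] at h2
    exact h2.symm
  · have hz0 : ∀ (n : ℕ) (U : List (List ℕ)) (u : ℕ), n ≤ i →
        Nat.testBit (maskOf U n u) i = false := fun n U u hn =>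
      Nat.testBit_lt_two_pow ((maskOf_lt' U n u).trans_le (Nat.pow_le_pow_right (by norm_num) hn))
    rw [hz0 _ _ _ (by omega), hz0 _ _ _ (by omega)]

/-- A line with a unique pattern among fixed lines is fixed. -/
theorem fix_of_pats {g : Equiv.Perm (Fin 4060)} (hg : g ∈ orthGroup) {C : List ℕ}
    {T : List (List ℕ)} (hT : tabOK T C = true) (hC : ∀ c ∈ C, c < 4060)
    (hfix : ∀ c ∈ C, g (pt c) = pt c) {ps : List (ℕ × ℕ)}
    (hps : ∀ z < 4060, patsOK T C.length ps z = true) {d m : ℕ} (hd : d < 4060)
    (hmem : (d, m) ∈ ps) (hm : maskOf T C.length d = m) : g (pt d) = pt d := by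
  have e := mask_transfer hg hT hT hC hC rfl (List.map_congr_left hfix) hd
  have h := hps (g (pt d)).val (g (pt d)).isLt
  simp only [patsOK, onNat_eq, List.all_eq_true] at h
  have h1 := h _ hmem
  simp only [e, hm, Bool.or_eq_true, Bool.not_eq_true', Nat.beq_eq] at h1
  rcases h1 with h1 | h1
  · exact absurd h1 (by simp)
  · exact Fin.ext (h1.trans (val_pt hd).symm)

end Cfsg.Agent.OutRu
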