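import Cfsg.Agent.Lib.OutRu.Cert

/-!
# The kernel checks for the centralisers
-/

set_option autoImplicit false
set_option maxRecDepth 8000
set_option Elab.async false

namespace Cfsg.Agent.OutRu

open Cfsg.Agent.StabCert Cfsg.Agent.RuPerm

theorem tabX_ok0 : ((List.range' 0 1015).all fun z =>
    Nat.beq (look 12 tabX z) (ev 12 perm wX z)) = true := by
  decide +kernel

theorem tabX_ok1 : ((List.range' 1015 1015).all fun z =>
    Nat.beq (look 12 tabX z) (ev 12 perm wX z)) = true := by
  decide +kernel

theorem tabX_ok2 : ((List.range' 2030 1015).all fun z =>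
    Nat.beq (look 12 tabX z) (ev 12 perm wX z)) = true := by
  decide +kernel

theorem tabX_ok3 : ((List.range' 3045 1015).all fun z =>
    Nat.beq (look 12 tabX z) (ev 12 perm wX z)) = true := by
  decide +kernel

theorem tabY_ok0 : ((List.range' 0 1015).all fun z =>
    Nat.beq (look 12 tabY z) (ev 12 perm wY z)) = true := by
  decide +kernel

theorem tabY_ok1 : ((List.range' 1015 1015).all fun z =>
    Nat.beq (look 12 tabY z) (ev 12 perm wY z)) = true := by
  decide +kernel

theorem tabY_ok2 : ((List.range' 2030 1015).all fun z =>
    Nat.beq (look 12 tabY z) (ev 12 perm wY z)) = true := by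
  decide +kernel

theorem tabY_ok3 : ((List.range' 3045 1015).all fun z =>
    Nat.beq (look 12 tabY z) (ev 12 perm wY z)) = true := by
  decide +kernel

theorem tables_ok : tabOK tX orbX = true ∧ tabOK tX' orbX' = true ∧ tabOK tY orbY = true ∧
    tabOK tYe (orbY ++ [0]) = true := by
  decide +kernel

theorem orbits_ok : orbX = (List.range 29).map (fun k => (ev 12 tabs [0])^[k] 0) ∧
    orbX' = (List.range 29).map (fun k => (ev 12 tabs [0])^[k] 111) ∧
    orbY = (List.range 14).map (fun k => (ev 12 tabs [1])^[k] 24) ∧
    orbY' = (List.range 14).map (fun k => (ev 12 tabs [1])^[k] 737) ∧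
    ev 12 perm wV 24 = 737 := by
  decide +kernel

theorem bits_ok : same [0] 0 bitsX 0 = true ∧ same [1] 24 bitsY 24 = true := by
  decide +kernel

theorem scanX_ok0 : ((List.range' 0 1015).all fun z =>
    scanOK [0] bitsX (orbX ++ orbX') z) = true := by
  decide +kernel

theorem scanX_ok1 : ((List.range' 1015 1015).all fun z =>
    scanOK [0] bitsX (orbX ++ orbX') z) = true := by
  decide +kernel

theorem scanX_ok2 : ((List.range' 2030 1015).all fun z =>
    scanOK [0] bitsX (orbX ++ orbX') z) = true := by
  decide +kernel

theorem scanX_ok3 : ((List.range' 3045 1015).all fun z =>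
    scanOK [0] bitsX (orbX ++ orbX') z) = true := by
  decide +kernel

theorem scanXX_ok0 : ((List.range' 0 1015).all fun z =>
    scanOK [0, 0] bitsX [] z) = true := by
  decide +kernel

theorem scanXX_ok1 : ((List.range' 1015 1015).all fun z =>
    scanOK [0, 0] bitsX [] z) = true := by
  decide +kernel

theorem scanXX_ok2 : ((List.range' 2030 1015).all fun z =>
    scanOK [0, 0] bitsX [] z) = true := by
  decide +kernel

theorem scanXX_ok3 : ((List.range' 3045 1015).all fun z =>
    scanOK [0, 0] bitsX [] z) = true := by
  decide +kernel

theorem scanY_ok0 : ((List.range' 0 1015).all fun z =>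
    scanOK [1] bitsY (orbY ++ orbY') z) = true := by
  decide +kernel

theorem scanY_ok1 : ((List.range' 1015 1015).all fun z =>
    scanOK [1] bitsY (orbY ++ orbY') z) = true := by
  decide +kernel

theorem scanY_ok2 : ((List.range' 2030 1015).all fun z =>
    scanOK [1] bitsY (orbY ++ orbY') z) = true := by
  decide +kernel

theorem scanY_ok3 : ((List.range' 3045 1015).all fun z =>
    scanOK [1] bitsY (orbY ++ orbY') z) = true := by
  decide +kernel

/-- Patterns with the orbit of the line 0. -/
def patsX : List (ℕ × ℕ) :=
  [(0, 455530806), (20, 353897655), (42, 136712895), (869, 445384283), (1211, 296560342)]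

/-- Patterns with the orbit of the line 24. -/
def patsY : List (ℕ × ℕ) := [(0, 10070), (20, 3812), (869, 13598), (1211, 10186)]

theorem patsX_ok0 : ((List.range' 0 1015).all fun z =>
    patsOK tX 29 patsX z) = true := by
  decide +kernel

theorem patsX_ok1 : ((List.range' 1015 1015).all fun z =>
    patsOK tX 29 patsX z) = true := by
  decide +kernel

theorem patsX_ok2 : ((List.range' 2030 1015).all fun z =>
    patsOK tX 29 patsX z) = true := by
  decide +kernel

theorem patsX_ok3 : ((List.range' 3045 1015).all fun z =>
    patsOK tX 29 patsX z) = true := by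
  decide +kernel

theorem patsX'_ok0 : ((List.range' 0 1015).all fun z =>
    patsOK tX' 29 [(4060, 282392794)] z) = true := by
  decide +kernel

theorem patsX'_ok1 : ((List.range' 1015 1015).all fun z =>
    patsOK tX' 29 [(4060, 282392794)] z) = true := by
  decide +kernel

theorem patsX'_ok2 : ((List.range' 2030 1015).all fun z =>
    patsOK tX' 29 [(4060, 282392794)] z) = true := by
  decide +kernel

theorem patsX'_ok3 : ((List.range' 3045 1015).all fun z =>
    patsOK tX' 29 [(4060, 282392794)] z) = true := by
  decide +kernel

theorem patsY_ok0 : ((List.range' 0 1015).all fun z =>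
    patsOK tY 14 patsY z) = true := by
  decide +kernel

theorem patsY_ok1 : ((List.range' 1015 1015).all fun z =>
    patsOK tY 14 patsY z) = true := by
  decide +kernel

theorem patsY_ok2 : ((List.range' 2030 1015).all fun z =>
    patsOK tY 14 patsY z) = true := by
  decide +kernel

theorem patsY_ok3 : ((List.range' 3045 1015).all fun z =>
    patsOK tY 14 patsY z) = true := by
  decide +kernel

theorem patsYe_ok0 : ((List.range' 0 1015).all fun z =>
    patsOK tYe 15 [(42, 30961)] z) = true := by
  decide +kernel

theorem patsYe_ok1 : ((List.range' 1015 1015).all fun z =>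
    patsOK tYe 15 [(42, 30961)] z) = true := by
  decide +kernel

theorem patsYe_ok2 : ((List.range' 2030 1015).all fun z =>
    patsOK tYe 15 [(42, 30961)] z) = true := by
  decide +kernel

theorem patsYe_ok3 : ((List.range' 3045 1015).all fun z =>
    patsOK tYe 15 [(42, 30961)] z) = true := by
  decide +kernel

theorem masks_ok : (patsX.all fun e => Nat.beq (maskOf tX 29 e.1) e.2) = true ∧
    (patsY.all fun e => Nat.beq (maskOf tY 14 e.1) e.2) = true ∧
    maskOf tYe 15 42 = 30961 ∧ maskOf tX 29 witX = 282392794 := by
  decide +kernel

end Cfsg.Agent.OutRu
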