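import Cfsg.Agent.Lib.OutRu.Checks

/-!
# Three elements of the Rudvalis group and their relations

* `xx`, `yy`, `vv` : orders 29, 14, 2;  `yy_conj`, `vv_comm`, `rel_seven`
* `rud_le` : they generate
-/

set_option autoImplicit false
set_option maxRecDepth 8000

namespace Cfsg.Agent.OutRu

open Cfsg.Agent.StabCert Cfsg.Agent.RuPerm

/-- A word repeated. -/
def rep (n : ℕ) (l : List ℕ) : List ℕ := (List.replicate n l).flatten

/-- The element of order 29. -/
noncomputable def xx : Equiv.Perm (Fin 4060) := wordEl gen wX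

/-- The element of order 14. -/
noncomputable def yy : Equiv.Perm (Fin 4060) := wordEl gen wY

/-- The involution. -/
noncomputable def vv : Equiv.Perm (Fin 4060) := wordEl gen wV

theorem wordEl_rep (n : ℕ) (l : List ℕ) : wordEl gen (rep n l) = wordEl gen l ^ n :=
  RuPerm.wordEl_pow l n

theorem word_apply {l : List ℕ} (hl : ∀ k ∈ l, k < 9) {i : ℕ} (hi : i < 4060) :
    ev 12 perm l i < 4060 ∧ wordEl gen l (pt i) = pt (ev 12 perm l i) := by
  obtain ⟨h1, h2⟩ := ev_spec sound l hl i hi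
  exact ⟨h1, by simpa using h2⟩

theorem word_ne {l l' : List ℕ} (hl : ∀ k ∈ l, k < 9) (hl' : ∀ k ∈ l', k < 9) {i : ℕ} (hi : i < 4060)
    (h : ev 12 perm l i ≠ ev 12 perm l' i) : wordEl gen l ≠ wordEl gen l' := by
  intro e
  obtain ⟨a1, a2⟩ := word_apply hl hi
  obtain ⟨b1, b2⟩ := word_apply hl' hi
  rw [e, b2] at a2
  exact h (pt_injOn a1 b1 a2.symm)

theorem mem_rud {l : List ℕ} (hl : ∀ k ∈ l, k < 5) : wordEl gen l ∈ rud :=
  wordEl_mem gen fun k hk => by
    have := hl k hk
    show k ∈ [0, 1, 2, 3, 4]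
    simp only [List.mem_cons, List.not_mem_nil, or_false]
    omega

theorem xx_mem : xx ∈ rud := mem_rud (by decide)

theorem yy_mem : yy ∈ rud := mem_rud (by decide)

theorem vv_mem : vv ∈ rud := mem_rud (by decide)

theorem step0 {i : ℕ} (hi : i < 4060) :
    ev 12 tabs [0] i < 4060 ∧ xx (pt i) = pt (ev 12 tabs [0] i) := by
  have e : ev 12 tabs [0] i = ev 12 perm wX i :=
    Nat.eq_of_beq_eq_true (all_range' tabX_ok0 tabX_ok1 tabX_ok2 tabX_ok3 hi)
  rw [e]
  exact word_apply (by decide) hi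

theorem step1 {i : ℕ} (hi : i < 4060) :
    ev 12 tabs [1] i < 4060 ∧ yy (pt i) = pt (ev 12 tabs [1] i) := by
  have e : ev 12 tabs [1] i = ev 12 perm wY i :=
    Nat.eq_of_beq_eq_true (all_range' tabY_ok0 tabY_ok1 tabY_ok2 tabY_ok3 hi)
  rw [e]
  exact word_apply (by decide) hi

theorem step00 {i : ℕ} (hi : i < 4060) :
    ev 12 tabs [0, 0] i < 4060 ∧ (xx ^ 2) (pt i) = pt (ev 12 tabs [0, 0] i) := by
  obtain ⟨h1, h2⟩ := step0 hi
  obtain ⟨h3, h4⟩ := step0 h1
  exact ⟨h3, by rw [pow_two, Equiv.Perm.mul_apply, h2, h4]; rfl⟩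

theorem iter_apply {σ : Equiv.Perm (Fin 4060)} {w : List ℕ}
    (h : ∀ i < 4060, ev 12 tabs w i < 4060 ∧ σ (pt i) = pt (ev 12 tabs w i)) {i : ℕ} (hi : i < 4060) :
    ∀ k : ℕ, (ev 12 tabs w)^[k] i < 4060 ∧ (σ ^ k) (pt i) = pt ((ev 12 tabs w)^[k] i)
  | 0 => ⟨hi, rfl⟩
  | k + 1 => by
    obtain ⟨h1, h2⟩ := iter_apply h hi k
    obtain ⟨h3, h4⟩ := h _ h1
    rw [Function.iterate_succ_apply']
    exact ⟨h3, by rw [pow_succ', Equiv.Perm.mul_apply, h2, h4]⟩

theorem xx_pow : xx ^ 29 = 1 := pow_eq_one_of_check (by decide) 29 (by decide +kernel)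

theorem yy_pow : yy ^ 14 = 1 := pow_eq_one_of_check (by decide) 14 (by decide +kernel)

theorem vv_pow : vv ^ 2 = 1 := pow_eq_one_of_check (by decide) 2 (by decide +kernel)

theorem yy_conj : yy * xx * yy⁻¹ = xx ^ 4 := by
  have h := wordEl_eq (l := wY ++ wX) (l' := rep 4 wX ++ wY) (by decide +kernel) (by decide +kernel)
    (by decide +kernel)
  rw [wordEl_append, wordEl_append, wordEl_rep] at h
  rw [mul_inv_eq_iff_eq_mul]
  exact h

theorem vv_comm : Commute vv yy := by
  have h := wordEl_eq (l := wV ++ wY) (l' := wY ++ wV) (by decide +kernel) (by decide +kernel)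
    (by decide +kernel)
  rwa [wordEl_append, wordEl_append] at h

theorem rel_seven : (xx * yy ^ 3 * vv) ^ 7 = 1 := by
  have h := pow_eq_one_of_check (l := wX ++ rep 3 wY ++ wV) (by decide +kernel) 7 (by decide +kernel)
  rwa [wordEl_append, wordEl_append, wordEl_rep] at h

theorem not_rel {i : ℕ} {w : List ℕ} (hw : ∀ k ∈ w, k < 9)
    (hp : ev 12 perm (rep 7 (rep i wX ++ rep 3 wY ++ w)) 0 ≠ 0) :
    (xx ^ i * yy ^ 3 * wordEl gen w) ^ 7 ≠ 1 := by
  have hrep : ∀ (n : ℕ) (l : List ℕ), (∀ k ∈ l, k < 9) → ∀ k ∈ rep n l, k < 9 := fun n l hl k hk => by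
    obtain ⟨m, hm, hk⟩ := List.mem_flatten.1 hk
    exact hl k (List.eq_of_mem_replicate hm ▸ hk)
  have hl : ∀ k ∈ rep 7 (rep i wX ++ rep 3 wY ++ w), k < 9 := hrep _ _ fun k hk => by
    simp only [List.mem_append] at hk
    rcases hk with (hk | hk) | hk
    · exact hrep _ _ (by decide) k hk
    · exact hrep _ _ (by decide) k hk
    · exact hw k hk
  have h := word_ne hl (l' := []) (by simp) (i := 0) (by norm_num) hp
  rw [wordEl_rep, wordEl_append, wordEl_append, wordEl_rep, wordEl_rep] at h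
  exact fun e => h (e.trans (by simp [wordEl]))

theorem xx_ne_one : xx ≠ 1 := by
  have h := word_ne (l := wX) (l' := []) (by decide) (by simp) (i := 0) (by norm_num) (by decide +kernel)
  simpa [wordEl, xx] using h

theorem vv_ne_one : vv ≠ 1 := by
  have h := word_ne (l := wV) (l' := []) (by decide) (by simp) (i := 0) (by norm_num) (by decide +kernel)
  simpa [wordEl, vv] using h

theorem vv_ne_yy : vv ≠ yy ^ 7 := by
  have h := word_ne (l := wV) (l' := rep 7 wY) (by decide) (by decide +kernel) (i := 24) (by norm_num)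
    (by decide +kernel)
  rw [wordEl_rep] at h
  exact h

theorem yy_pow_ne {n : ℕ} (hn : n = 2 ∨ n = 7) : yy ^ n ≠ 1 := by
  rcases hn with rfl | rfl
  · have h := word_ne (l := rep 2 wY) (l' := []) (by decide +kernel) (by simp) (i := 24) (by norm_num)
      (by decide +kernel)
    rw [wordEl_rep] at h
    exact fun e => h (e.trans (by simp [wordEl]))
  · have h := word_ne (l := rep 7 wY) (l' := []) (by decide +kernel) (by simp) (i := 24) (by norm_num)
      (by decide +kernel)
    rw [wordEl_rep] at h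
    exact fun e => h (e.trans (by simp [wordEl]))

/-- The word of `gen 4` in the three elements. -/
def word4 : List ℕ :=
  rep 20 wX ++ wV ++ rep 7 wX ++ wV ++ rep 16 wX ++ wV ++ rep 3 wX ++ wV ++
    rep 2 wX ++ wV ++ rep 13 wX ++ wV ++ rep 16 wX ++ wV ++ rep 22 wX

/-- The word of `gen 5` in the three elements. -/
def word5 : List ℕ :=
  rep 10 wX ++ wV ++ rep 16 wX ++ wV ++ rep 19 wX ++ wV ++ rep 7 wX ++ wV ++ wY ++
    rep 4 wX ++ wV ++ rep 6 wX ++ wV ++ rep 22 wX ++ wV ++ rep 27 wX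

theorem rud_le : rud ≤ Subgroup.closure {xx, yy, vv} := by
  set K := Subgroup.closure ({xx, yy, vv} : Set (Equiv.Perm (Fin 4060)))
  have hx : ∀ n, wordEl gen (rep n wX) ∈ K := fun n => by
    rw [wordEl_rep]; exact pow_mem (show xx ∈ K from Subgroup.subset_closure (Or.inl rfl)) n
  have hy : wordEl gen wY ∈ K := Subgroup.subset_closure (Or.inr (Or.inl rfl))
  have hv : wordEl gen wV ∈ K := Subgroup.subset_closure (Or.inr (Or.inr rfl))
  have happ : ∀ {a b : List ℕ}, wordEl gen a ∈ K → wordEl gen b ∈ K → wordEl gen (a ++ b) ∈ K :=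
    fun ha hb => by rw [wordEl_append]; exact mul_mem ha hb
  have one : ∀ k, wordEl gen [k] = gen k := fun k => by simp [wordEl]
  have h4 : gen 4 ∈ K := by
    rw [← one, wordEl_eq (l' := word4) (by simp) (by decide +kernel) (by decide +kernel)]
    exact happ (happ (happ (happ (happ (happ (happ (happ (happ (happ (happ (happ (happ (happ
      (hx _) hv) (hx _)) hv) (hx _)) hv) (hx _)) hv) (hx _)) hv) (hx _)) hv) (hx _)) hv) (hx _)
  have h5 : gen 5 ∈ K := by
    rw [← one, wordEl_eq (l' := word5) (by simp) (by decide +kernel) (by decide +kernel)]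
    exact happ (happ (happ (happ (happ (happ (happ (happ (happ (happ (happ (happ (happ (happ (happ
      (hx _) hv) (hx _)) hv) (hx _)) hv) (hx _)) hv) hy) (hx _)) hv) (hx _)) hv) (hx _)) hv) (hx _)
  refine (Subgroup.closure_le _).2 ?_
  rintro _ ⟨k, hk, rfl⟩
  have hk5 : k < 5 := by
    have hk' : k ∈ [0, 1, 2, 3, 4] := hk
    simp at hk'
    omega
  have e : gen k = wordEl gen (letterWords.getD k []) := by
    rw [← one k]
    interval_cases k <;>
      first
      | exact wordEl_eq (by simp) (by decide +kernel) (by decide +kernel)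
      | (refine congrArg _ ?_; decide +kernel)
  rw [e]
  refine list_prod_mem fun y hy => ?_
  obtain ⟨a, ha, rfl⟩ := List.mem_map.1 hy
  have hw := letterWords_ok
  simp only [List.all_eq_true, List.mem_range, Bool.or_eq_true, Nat.beq_eq] at hw
  rcases hw k (by omega) a ha with rfl | rfl
  · exact h4
  · exact h5

end Cfsg.Agent.OutRu
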