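import Cfsg.Agent.Lib.OutRu.Centralisers
import Cfsg.Agent.Lib.OutCert.Basic

/-!
# The Rudvalis group has no outer automorphisms

An automorphism may be normalised to `x ↦ x ^ i`, `y ↦ y` on the normaliser of a subgroup of order 29;
then the image of `v` centralises `y` and is forced by the relation `(x y³ v)⁷ = 1`.
-/

set_option autoImplicit false
set_option maxRecDepth 8000

namespace Cfsg.Agent.OutRu

open Cfsg.Agent.StabCert Cfsg.Agent.RuPerm

/-- The element of order 29 in the group. -/
noncomputable def gX : rud := ⟨xx, xx_mem⟩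

/-- The element of order 14 in the group. -/
noncomputable def gY : rud := ⟨yy, yy_mem⟩

/-- The involution in the group. -/
noncomputable def gV : rud := ⟨vv, vv_mem⟩

theorem orderOf_gX : orderOf gX = 29 := by
  rw [gX, Subgroup.orderOf_mk]
  have : Fact (Nat.Prime 29) := ⟨by norm_num⟩
  exact orderOf_eq_prime xx_pow xx_ne_one

theorem orderOf_gY : orderOf gY = 14 := by
  rw [gY, Subgroup.orderOf_mk, orderOf_eq_iff (by norm_num)]
  refine ⟨yy_pow, fun m hm hm0 e => ?_⟩
  have h1 : yy ^ (Nat.gcd m 14) = 1 := pow_gcd_eq_one.mpr ⟨e, yy_pow⟩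
  have key : ∀ k < 14, 0 < k → Nat.gcd k 14 ∣ 2 ∨ Nat.gcd k 14 ∣ 7 := by decide +kernel
  rcases key m hm hm0 with h | h
  · obtain ⟨c, hc⟩ := h
    exact yy_pow_ne (Or.inl rfl) (by rw [hc, pow_mul, h1, one_pow])
  · obtain ⟨c, hc⟩ := h
    exact yy_pow_ne (Or.inr rfl) (by rw [hc, pow_mul, h1, one_pow])

theorem gens_top : Subgroup.closure ({gX, gY, gV} : Set rud) = ⊤ := by
  refine Subgroup.map_injective rud.subtype_injective ?_
  rw [MonoidHom.map_closure, ← MonoidHom.range_eq_map, Subgroup.range_subtype]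
  refine le_antisymm ((Subgroup.closure_le _).2 ?_) (rud_le.trans (le_of_eq ?_))
  · rintro _ ⟨a, -, rfl⟩
    exact a.2
  · congr 1
    simp [Set.image_insert_eq, gX, gY, gV]

theorem natCard_out_rud : Nat.card (Cfsg.Out rud) = 1 := by
  have : Fact (Nat.Prime 29) := ⟨by norm_num⟩
  refine OutCert.card_out_eq_one {gX, gY, gV} gens_top fun α => ?_
  obtain ⟨g, i, hi, hgx, hgy⟩ := OutCert.exists_inner_normal (x := gX) (y := gY) (p := 29) (r := 14) 4
    orderOf_gX (by rw [natCard_rud]; norm_num) orderOf_gY (Subtype.ext yy_conj)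
    (by decide +kernel) (by decide +kernel) (by norm_num)
    (fun g h => by
      obtain ⟨j, hj⟩ := (mem_powers_iff_mem_zpowers.2 h : g * gX * g⁻¹ ∈ Submonoid.powers gX)
      obtain ⟨a, b, e⟩ := normX g.2 (i := j) (congrArg Subtype.val hj).symm
      exact ⟨a, b, Subtype.ext e⟩)
    [1, 2] (by decide +kernel) α
  set u : rud := g * α gV * g⁻¹ with hu
  have hcu : Commute (u : Equiv.Perm (Fin 4060)) yy := by
    have h : u * gY = gY * u := by
      have h' : gV * gY = gY * gV := Subtype.ext vv_comm.eq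
      have := congrArg (fun z => g * α z * g⁻¹) h'
      simp only [map_mul] at this
      rw [hu]
      conv_lhs => rw [← hgy]
      conv_rhs => rw [← hgy]
      calc g * α gV * g⁻¹ * (g * α gY * g⁻¹) = g * (α gV * α gY) * g⁻¹ := by group
        _ = g * (α gY * α gV) * g⁻¹ := this
        _ = g * α gY * g⁻¹ * (g * α gV * g⁻¹) := by group
    exact congrArg Subtype.val h
  have hu2 : u ^ 2 = 1 := by
    rw [hu, conj_pow, ← map_pow, show gV ^ 2 = 1 from Subtype.ext vv_pow, map_one, mul_one,
      mul_inv_cancel]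
  have hu1 : u ≠ 1 := by
    rw [hu, Ne, conj_eq_one_iff, map_eq_one_iff α α.injective]
    exact fun e => vv_ne_one (congrArg Subtype.val e)
  have hu7 : u ≠ gY ^ 7 := by
    intro e
    have h2 : g * α (gY ^ 7) * g⁻¹ = gY ^ 7 := by rw [map_pow, ← conj_pow, hgy]
    rw [hu, ← h2, mul_left_inj, mul_right_inj] at e
    exact vv_ne_yy (congrArg Subtype.val (α.injective e))
  have hred : ∀ k, yy ^ k = yy ^ (k % 14) := fun k => by
    conv_lhs => rw [← Nat.div_add_mod k 14, pow_add, pow_mul, yy_pow, one_pow, one_mul]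
  have hev : ∀ k, yy ^ (2 * k) = 1 → k % 14 = 0 ∨ k % 14 = 7 := fun k h => by
    have e := orderOf_gY
    rw [gY, Subgroup.orderOf_mk] at e
    have := orderOf_dvd_of_pow_eq_one h
    rw [e] at this
    omega
  obtain ⟨k, hk⟩ := cent_yy (rud_eq ▸ u.2) hcu
  have hu2' : (u : Equiv.Perm (Fin 4060)) ^ 2 = 1 := congrArg Subtype.val hu2
  have hcase : (u : Equiv.Perm (Fin 4060)) = vv ∨ (u : Equiv.Perm (Fin 4060)) = yy ^ 7 * vv := by
    rcases hk with hk | hk
    · exfalso
      rw [hk, ← pow_mul, mul_comm] at hu2'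
      rcases hev k hu2' with h | h
      · rw [hred, h, pow_zero] at hk
        exact hu1 (Subtype.ext hk)
      · rw [hred, h] at hk
        exact hu7 (Subtype.ext hk)
    · have hc : Commute (yy ^ k) vv := (vv_comm.symm).pow_left k
      rw [hk, hc.mul_pow, vv_pow, mul_one, ← pow_mul, mul_comm] at hu2'
      rcases hev k hu2' with h | h <;> rw [hred, h] at hk
      · exact Or.inl (by simpa using hk)
      · exact Or.inr hk
  -- the relation
  have hrel : ((gX ^ i : rud) * gY ^ 3 * u) ^ 7 = 1 := by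
    have h0 : (gX * gY ^ 3 * gV) ^ 7 = 1 := Subtype.ext rel_seven
    have h1 := congrArg (fun z => g * α z * g⁻¹) h0
    simp only [map_pow, map_mul, map_one, mul_one, mul_inv_cancel] at h1
    rw [← h1, ← conj_pow, ← hgx, hu]
    congr 1
    conv_lhs => rw [← hgy, conj_pow]
    group
  have hrel' : (xx ^ i * yy ^ 3 * (u : Equiv.Perm (Fin 4060))) ^ 7 = 1 := congrArg Subtype.val hrel
  have e7 : yy ^ 7 * vv = wordEl gen (rep 7 wY ++ wV) := by
    rw [wordEl_append, wordEl_rep]; rfl
  simp only [List.mem_cons, List.not_mem_nil, or_false] at hi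
  rcases hi with rfl | rfl <;> rcases hcase with h | h <;> rw [h] at hrel'
  · refine ⟨g, ?_⟩
    rintro s (rfl | rfl | rfl)
    · rw [hgx, pow_one]
    · exact hgy
    · exact Subtype.ext h
  · rw [e7] at hrel'
    exact absurd hrel' (not_rel (by decide +kernel) (by decide +kernel))
  · exact absurd hrel' (not_rel (i := 2) (w := wV) (by decide) (by decide +kernel))
  · rw [e7] at hrel'
    exact absurd hrel' (not_rel (by decide +kernel) (by decide +kernel))

end Cfsg.Agent.OutRu
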